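import Groth.Agent.Lib.PBDeg17.Exists
import Groth.Agent.Lib.PBDeg17.Split
import Groth.Agent.Lib.OX.SingleDegree
import Groth.Agent.Lib.ModelK.Rank
import Groth.Agent.Lib.Euler.RankAdd
import Groth.Agent.Lib.Euler.AmpleComponents
import Groth.Agent.Lib.AlgSp.FibreFactor
import Groth.Agent.Lib.TFNorm9.IsoRestrict
import Groth.Agent.Lib.OX.OneDegLocus

/-!
A finite locally free module has a flag after a modification.
-/

set_option autoImplicit false
set_option linter.style.haveILetI false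
set_option backward.isDefEq.respectTransparency false
set_option maxHeartbeats 1000000

universe u

open CategoryTheory CategoryTheory.Limits AlgebraicGeometry TopologicalSpace

noncomputable section

namespace GrothLib.FlagMod12

open GrothLib.PBDeg (Flag InvSeq)

theorem restrict_apply {X Y : Scheme.{u}} (f : Y ⟶ X) (U : X.Opens) (z : ((f ⁻¹ᵁ U : Y.Opens) : Scheme.{u})) :
    U.ι ((f ∣_ U) z) = f ((f ⁻¹ᵁ U).ι z) := by
  rw [← Scheme.Hom.comp_apply, morphismRestrict_ι, Scheme.Hom.comp_apply]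

/-- An invertible quotient after a modification. -/
theorem exists_invSeq {X : Scheme.{u}} [IsIntegral X] {r : ℕ} {E : X.Modules}
    (hE : FlatMod.IsFinLocFreeOfRank (r + 1) E) :
    ∃ (X' : Scheme.{u}) (f : X' ⟶ X) (_ : IsIntegral X') (_ : IsProper f) (U : X.Opens)
      (_ : (U : Set ↥X).Nonempty) (_ : IsIso (f ∣_ U)) (K L : X'.Modules),
      FlatMod.IsFinLocFreeOfRank r K ∧ InvSeq K ((Scheme.Modules.pullback f).obj E) L := by
  obtain ⟨P, p, O1, q, hP, -, hproper⟩ := PBDeg.exists_isProjBundle hE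
  haveI := hproper
  obtain ⟨U, hηU, ⟨e⟩⟩ := hE (genericPoint X)
  -- the rational section
  let π : FlatMod.freeMod (U : Scheme) (r + 1) ⟶ Coh.structureModule (U : Scheme) :=
    Sigma.desc fun i : Fin (r + 1) => if i = 0 then 𝟙 _ else 0
  have hπ0 : Sigma.ι (fun _ : Fin (r + 1) => Coh.structureModule (U : Scheme)) 0 ≫ π = 𝟙 _ := by
    rw [Sigma.ι_desc, if_pos rfl]
  haveI : Epi π := epi_of_epi_fac hπ0
  let e' : (Scheme.Modules.pullback U.ι).obj E ≅ FlatMod.freeMod (U : Scheme) (r + 1) :=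
    ((Scheme.Modules.restrictFunctorIsoPullback U.ι).app E).symm ≪≫ e
  obtain ⟨h, ⟨hh, -⟩, -⟩ := hP.univ (U : Scheme) U.ι (Coh.structureModule (U : Scheme))
    (PBDeg.rankOne_iff.2 Euler.isInvertible_structure) (e'.hom ≫ π) (epi_comp _ _)
  haveI : IsIntegral (U : Scheme) := by
    haveI : Nonempty (U : Scheme) := ⟨⟨genericPoint X, hηU⟩⟩
    exact isIntegral_of_isOpenImmersion U.ι
  let η' : P := h (genericPoint (U : Scheme))
  let T : Closeds P := ⟨closure {η'}, isClosed_closure⟩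
  let I := Scheme.IdealSheafData.vanishingIdeal T
  haveI : IsIntegral I.subscheme := Euler.isIntegral_vanishingIdeal T isIrreducible_singleton.closure
  have hrange : Set.range h ⊆ Set.range I.subschemeι := by
    rw [Scheme.IdealSheafData.range_subschemeι, Scheme.IdealSheafData.coe_support_vanishingIdeal]
    rintro _ ⟨u, rfl⟩
    exact specializes_iff_mem_closure.1 ((genericPoint_specializes u).map h.continuous)
  obtain ⟨s₀, hs₀⟩ := AlgSp.exists_lift_of_range_subset h I.subschemeι hrange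
  let f := I.subschemeι ≫ p
  have hs₀f : s₀ ≫ f = U.ι := by rw [← Category.assoc, hs₀, hh]
  let s : (U : Scheme) ⟶ (f ⁻¹ᵁ U : I.subscheme.Opens) :=
    (isPullback_morphismRestrict f U).lift (𝟙 _) s₀ (by rw [Category.id_comp, hs₀f])
  have hs1 : s ≫ f ∣_ U = 𝟙 _ := (isPullback_morphismRestrict f U).lift_fst _ _ _
  have hs2 : s ≫ (f ⁻¹ᵁ U).ι = s₀ := (isPullback_morphismRestrict f U).lift_snd _ _ _
  haveI : IsClosedImmersion (s ≫ f ∣_ U) := hs1 ▸ inferInstance
  haveI : IsClosedImmersion s := IsClosedImmersion.of_comp s (f ∣_ U)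
  haveI : Nonempty (f ⁻¹ᵁ U : I.subscheme.Opens) := ⟨s (genericPoint (U : Scheme))⟩
  haveI : IsIntegral (f ⁻¹ᵁ U : I.subscheme.Opens) := isIntegral_of_isOpenImmersion (f ⁻¹ᵁ U).ι
  haveI : Surjective s := by
    refine ⟨fun z => ?_⟩
    have hz : z ∈ closure {s (genericPoint (U : Scheme))} := by
      rw [(f ⁻¹ᵁ U).ι.isOpenEmbedding.isInducing.closure_eq_preimage_closure_image, Set.image_singleton,
        ← Scheme.Hom.comp_apply, hs2]
      show _ ∈ closure {s₀ (genericPoint (U : Scheme))}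
      rw [I.subschemeι.isClosedEmbedding.isInducing.closure_eq_preimage_closure_image, Set.image_singleton,
        ← Scheme.Hom.comp_apply, hs₀]
      have := Set.mem_range_self (f := I.subschemeι) ((f ⁻¹ᵁ U).ι z)
      rw [Scheme.IdealSheafData.range_subschemeι, Scheme.IdealSheafData.coe_support_vanishingIdeal] at this
      exact this
    exact (closure_minimal (Set.singleton_subset_iff.2 (Set.mem_range_self _))
      s.isClosedEmbedding.isClosed_range) hz
  haveI : IsIso s := isIso_of_isClosedImmersion_of_surjective s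
  haveI : IsIso (f ∣_ U) := by
    haveI : IsIso (s ≫ f ∣_ U) := hs1 ▸ inferInstance
    exact IsIso.of_isIso_comp_left s (f ∣_ U)
  -- the tautological quotient
  let qf : (Scheme.Modules.pullback f).obj E ⟶ (Scheme.Modules.pullback I.subschemeι).obj O1 :=
    (Scheme.Modules.pullbackComp I.subschemeι p).inv.app E ≫ (Scheme.Modules.pullback I.subschemeι).map q
  haveI := hP.epi
  haveI : (Scheme.Modules.pullback I.subschemeι).IsLeftAdjoint :=
    (Scheme.Modules.pullbackPushforwardAdjunction I.subschemeι).isLeftAdjoint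
  haveI : Epi qf := epi_comp _ _
  have hL : PicF.IsInvertible ((Scheme.Modules.pullback I.subschemeι).obj O1) :=
    RelProjK.isInvertible_pullback _ (PBDeg.rankOne_iff.1 hP.invertible)
  have hEf := OX.isFinLocFree_pullback f (FinCov.isFinLocFree_of_rank hE)
  have hK : FlatMod.IsFinLocFree (kernel qf) :=
    OX.isFinLocFree_kernel qf hEf (FinCov.isFinLocFree_of_rank (PBDeg.rankOne_iff.2 hL))
  obtain ⟨r', hr'⟩ := ModelK.exists_rank_connected hK
  have hS : (ShortComplex.mk (kernel.ι qf) qf (kernel.condition qf)).ShortExact :=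
    { exact := ShortComplex.exact_of_f_is_kernel _ (kernelIsKernel qf) }
  have hrank := Euler.rank_add_of_shortExact (genericPoint I.subscheme) hS hr'
    (OX.isFinLocFreeOfRank_pullback f hE) (PBDeg.rankOne_iff.2 hL)
  obtain rfl : r' = r := by omega
  exact ⟨I.subscheme, f, inferInstance, inferInstance, U, ⟨_, hηU⟩, inferInstance, _, _, hr', hL, _, _, _, hS⟩

/-- Flags after modifications. -/
theorem exists_flag (r : ℕ) : ∀ (X : Scheme.{u}) [IsIntegral X] (E : X.Modules), FlatMod.IsFinLocFreeOfRank r E →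
    ∃ (X' : Scheme.{u}) (f : X' ⟶ X) (_ : IsIntegral X') (_ : IsProper f) (U : X.Opens)
      (_ : (U : Set ↥X).Nonempty) (_ : IsIso (f ∣_ U)), Flag r ((Scheme.Modules.pullback f).obj E) := by
  induction r with
  | zero =>
    intro X _ E hE
    exact ⟨X, 𝟙 X, inferInstance, inferInstance, ⊤, ⟨genericPoint X, trivial⟩, inferInstance,
      (PBDeg.flag_zero hE).of_iso ((Scheme.Modules.pullbackId X).app E).symm⟩
  | succ r ih =>
    intro X _ E hE
    obtain ⟨X₁, f, _, _, U, ⟨x, hx⟩, _, K, L, hK, hKL⟩ := exists_invSeq hE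
    obtain ⟨X₂, g, _, _, U', ⟨y, hy⟩, _, hflag⟩ := ih X₁ K hK
    have hne : ((U' ⊓ f ⁻¹ᵁ U : X₁.Opens) : Set X₁).Nonempty := by
      have hη : genericPoint X ∈ U := (genericPoint_specializes x).mem_open U.2 hx
      let t := inv (f ∣_ U) ⟨genericPoint X, hη⟩
      exact nonempty_preirreducible_inter U'.2 (f ⁻¹ᵁ U).2 ⟨y, hy⟩ ⟨(f ⁻¹ᵁ U).ι t, t.2⟩
    obtain ⟨z, hzU', hzU⟩ := hne
    let V : X.Opens := U.ι ''ᵁ ((inv (f ∣_ U)) ⁻¹ᵁ ((f ⁻¹ᵁ U).ι ⁻¹ᵁ U'))
    have hVU : V ≤ U := fun v hv => by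
      obtain ⟨w, -, rfl⟩ := hv
      exact w.2
    have hfV : f ⁻¹ᵁ V ≤ U' := fun w hw => by
      obtain ⟨v, hv, hvw⟩ := hw
      have hwU : w ∈ f ⁻¹ᵁ U := hVU ⟨v, hv, hvw⟩
      have e1 : (f ∣_ U) ⟨w, hwU⟩ = v := by
        apply U.ι.isOpenEmbedding.injective
        exact (restrict_apply f U _).trans hvw.symm
      have e2 : inv (f ∣_ U) v = ⟨w, hwU⟩ := by
        rw [← e1, ← Scheme.Hom.comp_apply, IsIso.hom_inv_id]
        rfl
      have hv' : (f ⁻¹ᵁ U).ι (inv (f ∣_ U) v) ∈ U' := hv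
      rw [e2] at hv'
      exact hv'
    haveI : IsIso (f ∣_ V) := TFNorm9.isIso_restrict_of_le f hVU
    haveI : IsIso (g ∣_ (f ⁻¹ᵁ V)) := TFNorm9.isIso_restrict_of_le g hfV
    haveI : IsIso ((g ≫ f) ∣_ V) := by
      rw [morphismRestrict_comp]
      infer_instance
    refine ⟨X₂, g ≫ f, inferInstance, inferInstance, V, ?_, inferInstance, ?_⟩
    · refine ⟨f z, (f ∣_ U) ⟨z, hzU⟩, ?_, ?_⟩
      · show (f ⁻¹ᵁ U).ι (inv (f ∣_ U) ((f ∣_ U) ⟨z, hzU⟩)) ∈ U'
        rw [← Scheme.Hom.comp_apply (f ∣_ U), IsIso.hom_inv_id]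
        exact hzU'
      · exact restrict_apply f U _
    · exact (hflag.succ (hKL.pullback g)).of_iso ((Scheme.Modules.pullbackComp g f).app E)

end GrothLib.FlagMod12
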